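import Mathlib
import Cfsg.Prelude.Def_LocalEven
import Cfsg.Agent.Lib.Components.Subnormal

/-!
Every overgroup `X` of a Sylow `p`-subgroup `S` is generated by `N_X(S)` and the `p`-minimal
subgroups of `X` containing `S`.
-/

set_option autoImplicit false

namespace Cfsg.Agent.Lib.IsolatedPMinimal

open Subgroup Cfsg
open scoped Pointwise

variable {G : Type*} [Group G] [Finite G] {p : ℕ} [hp : Fact p.Prime]

/-- One Sylow subgroup suffices to check `p`-minimality. -/
theorem isPMinimal_of_sylow {H : Type*} [Group H] [Finite H] (T : Sylow p H)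
    (hn : ¬ (T : Subgroup H).Normal)
    (hu : ∀ M₁ M₂ : Subgroup H, IsCoatom M₁ → (T : Subgroup H) ≤ M₁ → IsCoatom M₂ →
      (T : Subgroup H) ≤ M₂ → M₁ = M₂) : IsPMinimal p H := by
  intro S'
  refine ⟨fun hS' => ?_, ?_⟩
  · haveI := Sylow.unique_of_normal S' hS'
    rw [Subsingleton.elim S' T] at hS'
    exact hn hS'
  obtain ⟨g, rfl⟩ := MulAction.exists_smul_eq H T S'
  set e := (MulAut.conj g).mapSubgroup with he
  have hcoe : ((g • T : Sylow p H) : Subgroup H) = e (T : Subgroup H) := rfl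
  have hne : (T : Subgroup H) ≠ ⊤ := fun e' => hn (e' ▸ (inferInstance : (⊤ : Subgroup H).Normal))
  obtain ⟨M, hM, hTM⟩ := (eq_top_or_exists_le_coatom (T : Subgroup H)).resolve_left hne
  refine ⟨e M, ⟨(e.isCoatom_iff M).2 hM, hcoe ▸ e.monotone hTM⟩, fun M' hM' => ?_⟩
  obtain ⟨M₀, rfl⟩ := e.surjective M'
  exact congrArg e (hu M₀ M ((e.isCoatom_iff M₀).1 hM'.1) (e.le_iff_le.1 (hcoe ▸ hM'.2)) hM hTM)

/-- `X` is generated by `N_X(S)` and its `p`-minimal subgroups over `S`. -/
theorem le_normalizer_sup_minimals (S : Sylow p G) :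
    ∀ (n : ℕ) (X : Subgroup G), Nat.card X ≤ n → (S : Subgroup G) ≤ X →
      X ≤ (normalizer ((S : Subgroup G) : Set G) ⊓ X) ⊔
        ⨆ P' : {P' : Subgroup G // (S : Subgroup G) ≤ P' ∧ P' ≤ X ∧ IsPMinimal p ↥P'},
          (P' : Subgroup G) := by
  intro n
  induction n with
  | zero => intro X h; exact absurd h (Nat.not_le.mpr Nat.card_pos)
  | succ n ih =>
    intro X hn hSX
    set T := S.subtype hSX with hT
    have hTc : (T : Subgroup X) = (S : Subgroup G).subgroupOf X := S.coe_subtype hSX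
    by_cases hnorm : (T : Subgroup X).Normal
    · rw [hTc] at hnorm
      exact le_sup_of_le_left (le_inf ((normal_subgroupOf_iff_le_normalizer hSX).1 hnorm) le_rfl)
    by_cases hu : ∀ M₁ M₂ : Subgroup X, IsCoatom M₁ → (T : Subgroup X) ≤ M₁ → IsCoatom M₂ →
        (T : Subgroup X) ≤ M₂ → M₁ = M₂
    · exact le_sup_of_le_right (le_iSup_of_le
        ⟨X, hSX, le_rfl, isPMinimal_of_sylow T hnorm hu⟩ le_rfl)
    simp only [not_forall] at hu
    obtain ⟨M₁, M₂, h₁, hT₁, h₂, hT₂, hne⟩ := hu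
    have key : ∀ M : Subgroup X, IsCoatom M → (T : Subgroup X) ≤ M →
        M.map X.subtype ≤ (normalizer ((S : Subgroup G) : Set G) ⊓ X) ⊔
          ⨆ P' : {P' : Subgroup G // (S : Subgroup G) ≤ P' ∧ P' ≤ X ∧ IsPMinimal p ↥P'},
            (P' : Subgroup G) := by
      intro M hM hTM
      have hMX : M.map X.subtype ≤ X := map_subtype_le M
      have hcard : Nat.card ↥(M.map X.subtype) ≤ n := by
        rw [card_map_of_injective X.subtype_injective]
        exact Nat.le_of_lt_succ ((Components.card_lt_of_ne_top hM.1).trans_le hn)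
      have hSM : (S : Subgroup G) ≤ M.map X.subtype := by
        rw [← map_subgroupOf_eq_of_le hSX, ← hTc]
        exact map_mono hTM
      refine (ih _ hcard hSM).trans (sup_le_sup (inf_le_inf_left _ hMX) ?_)
      exact iSup_le fun P' => le_iSup_of_le ⟨P'.1, P'.2.1, P'.2.2.1.trans hMX, P'.2.2.2⟩ le_rfl
    have htop : M₁ ⊔ M₂ = ⊤ := by
      refine h₁.2 _ (lt_of_le_of_ne le_sup_left fun e => ?_)
      have hle : M₂ ≤ M₁ := e ▸ le_sup_right
      rcases hle.lt_or_eq with hlt | heq
      · exact h₁.1 (h₂.2 _ hlt)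
      · exact hne heq.symm
    calc X = (M₁ ⊔ M₂).map X.subtype := by
            rw [htop, ← MonoidHom.range_eq_map, range_subtype]
      _ ≤ _ := by
            rw [Subgroup.map_sup]
            exact sup_le (key M₁ h₁ hT₁) (key M₂ h₂ hT₂)

end Cfsg.Agent.Lib.IsolatedPMinimal
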