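import Mathlib
import Cfsg.Prelude.Def_Local
import Cfsg.Prelude.Def_LocalEven
import Cfsg.Agent.Lib.LocalChar.Core
import Cfsg.Agent.Lib.PSolvable.Core
import Cfsg.Agent.Lib.Transfer.PResidual
import Cfsg.Agent.Lib.Coprime.Quotient
import Cfsg.Agent.Lib.Components.GenFitting
import Cfsg.Agent.Lib.PrimePowerClass.PElement
import Cfsg.Agent.Lib.Core.Nilpotent

/-!
An isolated `p`-minimal subgroup `P` over `S`, abstractly: every overgroup of `S` contains `P` or
lies in `L`, and `A = O_p(L)` is such that no proper `P`-invariant piece contains it.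
Here `O_p(G) = 1` is assumed; `T` plays the role of `O^p(P)`.
-/

set_option autoImplicit false

namespace Cfsg.Agent.Lib.IsolatedPMinimal

open Subgroup Cfsg
open scoped commutatorElement

variable {G : Type*} [Group G]

/-- The working hypotheses. -/
structure Setting (p : ℕ) (S L P A T : Subgroup G) : Prop where
  pgroup : IsPGroup p S
  core : pCore p G = ⊥
  le_L : S ≤ L
  le_P : S ≤ P
  not_le : ¬ P ≤ L
  gen : ∀ X : Subgroup G, S ≤ X → X ≤ P ⊔ (X ⊓ L)
  ovr : ∀ X : Subgroup G, S ≤ X → P ≤ X ∨ X ≤ L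
  A_le : A ≤ S
  A_norm : L ≤ normalizer (A : Set G)
  T_le : T ≤ P
  T_norm : P ≤ normalizer (T : Set G)
  sup_T : P ≤ T ⊔ S
  T_res : T ≤ closure {g : G | g ∈ T ∧ (orderOf g).Coprime p}
  T_min : ∀ C : Subgroup G, A ≤ C → P ≤ normalizer (C : Set G) → T ≤ C

namespace Setting

variable {p : ℕ} [hp : Fact p.Prime] {S L P A T : Subgroup G} [Finite G] (h : Setting p S L P A T)
include h

theorem isPGroup_A : IsPGroup p A := h.pgroup.to_le h.A_le

theorem T_le_of_P_le {X : Subgroup G} (hX : S ≤ normalizer (X : Set G)) (hP : P ≤ X ⊔ S) :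
    T ≤ X := by
  refine h.T_res.trans ((closure_le _).2 fun g hg => ?_)
  exact LocalChar.mem_of_le_sup h.pgroup hX (hP (h.T_le hg.1)) hg.2

/-- An invariant subgroup contains `T` or lies in `L`. -/
theorem dichotomy {X : Subgroup G} (hX : S ≤ normalizer (X : Set G)) : T ≤ X ∨ X ≤ L :=
  (h.ovr (X ⊔ S) le_sup_right).imp (h.T_le_of_P_le hX) fun h' => le_sup_left.trans h'

theorem T_ne_bot : T ≠ ⊥ := fun e => h.not_le (h.sup_T.trans (by rw [e, bot_sup_eq]; exact h.le_L))

theorem not_T_le_L : ¬ T ≤ L := fun e => h.not_le (h.sup_T.trans (sup_le e h.le_L))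

theorem T_le_top : (P ⊔ L : Subgroup G) = ⊤ := by
  refine eq_top_iff.2 ((h.gen ⊤ le_top).trans ?_)
  rw [top_inf_eq]

/-- `A` does not centralize `T`. -/
theorem not_commute : ⁅T, A⁆ ≠ ⊥ := by
  intro e
  have hPA : P ≤ normalizer (A : Set G) := by
    refine h.sup_T.trans (sup_le ?_ (h.le_L.trans h.A_norm))
    exact (commutator_eq_bot_iff_le_centralizer.1 e).trans (centralizer_le_normalizer _)
  have hTA : T ≤ A := h.T_min A le_rfl hPA
  exact h.not_T_le_L (hTA.trans (h.A_le.trans h.le_L))

omit [Finite G] hp in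
theorem le_normalizer_T : S ≤ normalizer (T : Set G) := h.le_P.trans h.T_norm

theorem T_le_commutator : T ≤ ⁅T, A⁆ := by
  have hn : P ≤ normalizer ((⁅T, A⁆ ⊔ A : Subgroup G) : Set G) := by
    refine h.sup_T.trans (sup_le ?_ (LocalChar.le_normalizer_sup_of_le
      (LocalChar.le_normalizer_commutator_of_le h.le_normalizer_T (h.le_L.trans h.A_norm))
      (h.le_L.trans h.A_norm)))
    refine le_normalizer_iff.2 fun t ht y hy => ?_
    have hle : (⁅T, A⁆ ⊔ A : Subgroup G).map (MulAut.conj t).toMonoidHom ≤ ⁅T, A⁆ ⊔ A := by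
      rw [Subgroup.map_sup]
      refine sup_le ((le_of_eq ?_).trans le_sup_left) ?_
      · exact LocalChar.conj_map_eq_of_mem (normalizer_commutator_ge_left T A ht)
      · rintro _ ⟨a, ha, rfl⟩
        show t * a * t⁻¹ ∈ _
        rw [show t * a * t⁻¹ = ⁅t, a⁆ * a by rw [commutatorElement_def]; group]
        exact mul_mem (mem_sup_left (commutator_mem_commutator ht ha)) (mem_sup_right ha)
    exact hle (mem_map_of_mem _ hy)
  refine h.T_res.trans ((closure_le _).2 fun g hg => ?_)
  exact LocalChar.mem_of_le_sup h.isPGroup_A (normalizer_commutator_ge_right T A)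
    (h.T_min _ le_sup_right hn hg.1) hg.2

/-- A normal subgroup contains `T` or is centralized by `T`. -/
theorem dichotomy_normal (N : Subgroup G) [N.Normal] : T ≤ N ∨ T ≤ centralizer (N : Set G) := by
  rcases h.dichotomy (X := N) le_normalizer_of_normal with h1 | h1
  · exact Or.inl h1
  refine Or.inr (h.T_min _ ?_ le_normalizer_of_normal)
  rw [← commutator_eq_bot_iff_le_centralizer, commutator_comm, eq_bot_iff]
  have hint : ⁅N, A⁆ ≤ N ⊓ A :=
    le_inf (commutator_le_left N A)
      (commutator_comm N A ▸ Coprime.commutator_le_of_le_normalizer (h1.trans h.A_norm))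
  refine hint.trans ?_
  have hn : ((N ⊓ A).subgroupOf N).Normal :=
    normal_subgroupOf_of_le_normalizer
      (LocalChar.le_normalizer_inf_of_le le_normalizer_of_normal (h1.trans h.A_norm))
  haveI := hn
  have h2 : (N ⊓ A).subgroupOf N ≤ pCore p N :=
    PSolvable.le_pCore (IsPGroup.of_equiv (h.isPGroup_A.to_le inf_le_right)
      (subgroupOfEquivOfLe inf_le_left).symm)
  intro x hx
  have h3 : x ∈ (pCore p N).map N.subtype := ⟨⟨x, hx.1⟩, h2 hx, rfl⟩
  rw [PSolvable.map_subtype_pCore_of_normal, h.core, bot_inf_eq] at h3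
  exact h3

/-- `T` lies in the Fitting subgroup or in the layer. -/
theorem le_fitting_or_layer : T ≤ fittingSubgroup G ∨ T ≤ layer G := by
  haveI := Components.fittingSubgroup_normal (G := G)
  haveI := Components.layer_normal (G := G)
  rcases h.dichotomy_normal (fittingSubgroup G) with h1 | h1
  · exact Or.inl h1
  rcases h.dichotomy_normal (layer G) with h2 | h2
  · exact Or.inr h2
  left
  haveI := Components.generalizedFittingSubgroup_normal (G := G)
  set C := centralizer (generalizedFittingSubgroup G : Set G) with hC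
  have hCc : IsMulCommutative C := ⟨⟨fun a b => Subtype.ext <|
    mem_centralizer_iff.1 b.2 a (Components.centralizer_generalizedFittingSubgroup_le a.2)⟩⟩
  have hCn : Group.IsNilpotent C := by
    haveI := hCc
    letI : CommGroup C := { (inferInstance : Group C) with mul_comm := fun a b => mul_comm' a b }
    infer_instance
  refine le_trans ?_ (Components.le_fittingSubgroup (inferInstance : C.Normal) hCn)
  rw [hC, le_centralizer_iff]
  exact sup_le (le_centralizer_iff.1 h2) (le_centralizer_iff.1 h1)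

theorem le_gfs : T ≤ generalizedFittingSubgroup G :=
  h.le_fitting_or_layer.elim (fun e => e.trans le_sup_right) fun e => e.trans le_sup_left

/-- The soluble case: `T` is normal, a `t`-group of class at most two. -/
theorem fitting_case (hT : T ≤ fittingSubgroup G) :
    T.Normal ∧ ∃ t : ℕ, t.Prime ∧ t ≠ p ∧ IsPGroup t T ∧ ⁅⁅T, T⁆, T⁆ = ⊥ := by
  classical
  have hFnil := Components.fittingSubgroup_isNilpotent (G := G)
  haveI := Components.fittingSubgroup_normal (G := G)
  -- the prime
  obtain ⟨t, ht, hTt⟩ : ∃ t : ℕ, t.Prime ∧ T ≤ pCore t G := by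
    by_contra hne
    simp only [not_exists, not_and] at hne
    refine h.not_T_le_L fun x hx => ?_
    have hprimes : ∀ q : ℕ, q.Prime → ∀ y ∈ T, (∃ b, orderOf y = q ^ b) → y ∈ L := by
      intro q hq y hy hyo
      haveI := Fact.mk hq
      haveI : (pCore q G).Normal := by
        haveI := PSolvable.pCore_characteristic (G := G) (p := q)
        infer_instance
      have hS : S ≤ normalizer ((T ⊓ pCore q G : Subgroup G) : Set G) :=
        LocalChar.le_normalizer_inf_of_le h.le_normalizer_T le_normalizer_of_normal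
      rcases h.dichotomy hS with h1 | h1
      · exact absurd (h1.trans inf_le_right) (hne q hq)
      · exact h1 ⟨hy, PrimePowerClass.mem_pCore_of_nilpotent_normal (q := q) _ hFnil (hT hy) hyo⟩
    -- an element is a product of elements of prime power order
    have key : ∀ n : ℕ, 0 < n → ∀ y ∈ T, y ^ n = 1 → y ∈ L := by
      intro n
      induction n using Nat.recOnPosPrimePosCoprime with
      | zero => exact fun hn => absurd hn (lt_irrefl 0)
      | one => intro _ y _ hy; rw [pow_one] at hy; rw [hy]; exact one_mem L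
      | prime_pow q k hq _ =>
        intro _ y hy hyk
        obtain ⟨b, -, hb⟩ := (Nat.dvd_prime_pow hq).1 (orderOf_dvd_of_pow_eq_one hyk)
        exact hprimes q hq y hy ⟨b, hb⟩
      | coprime a b _ _ hab iha ihb =>
        intro hn y hy hyk
        obtain ⟨u, v, huv⟩ : ∃ u v : ℤ, (a : ℤ) * u + b * v = 1 := by
          obtain ⟨u, v, huv⟩ := (Nat.isCoprime_iff_coprime.2 hab)
          exact ⟨u, v, by linarith⟩
        have e : y = (y ^ a) ^ u * (y ^ b) ^ v := by
          rw [← zpow_natCast y a, ← zpow_natCast y b, ← zpow_mul, ← zpow_mul, ← zpow_add, huv,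
            zpow_one]
        rw [e]
        have ha0 : 0 < a := Nat.pos_of_mul_pos_right hn
        have hb0 : 0 < b := Nat.pos_of_mul_pos_left hn
        refine mul_mem (zpow_mem (ihb hb0 _ (pow_mem hy a) ?_) u)
          (zpow_mem (iha ha0 _ (pow_mem hy b) ?_) v)
        · rw [← pow_mul, hyk]
        · rw [← pow_mul, mul_comm, hyk]
    exact key (orderOf x) (orderOf_pos x) x hx (pow_orderOf_eq_one x)
  haveI := Fact.mk ht
  set R := pCore t G with hR
  haveI hRn : R.Normal := by
    haveI := PSolvable.pCore_characteristic (G := G) (p := t)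
    infer_instance
  have htp : t ≠ p := by
    rintro rfl
    exact h.T_ne_bot (le_bot_iff.1 (hTt.trans h.core.le))
  have hcop : ∀ K : Subgroup G, K ≤ R → (Nat.card A).Coprime (Nat.card K) := fun K hK =>
    IsPGroup.coprime_card_of_ne p t (fun e => htp e.symm) A K h.isPGroup_A
      (PSolvable.pCore_isPGroup.to_le hK)
  set X := ⁅R, A⁆ with hX
  have hXR : X ≤ R := commutator_le_left R A
  have hXA : ⁅X, A⁆ = X :=
    Coprime.commutator_commutator_eq le_normalizer_of_normal (hcop _ hXR)
  have hLX : L ≤ normalizer (X : Set G) :=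
    LocalChar.le_normalizer_commutator_of_le le_normalizer_of_normal h.A_norm
  have hTX : T ≤ X := h.T_le_commutator.trans (commutator_mono hTt le_rfl)
  -- `X = T`
  have hgenX : X ≤ T ⊔ (X ⊓ centralizer (A : Set G)) := by
    have h1 : X ⊔ S ≤ P ⊔ ((X ⊔ S) ⊓ L) := h.gen _ le_sup_right
    have h2 : (X ⊔ S) ⊓ L ≤ (X ⊓ L) ⊔ S := by
      intro z hz
      have hz1 : z ∈ X ⊔ S := hz.1
      rw [← SetLike.mem_coe,
        Subgroup.coe_mul_of_right_le_normalizer_left X S (h.le_L.trans hLX)] at hz1
      obtain ⟨x, hx, s, hs, rfl⟩ := hz1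
      refine mul_mem_sup (mem_inf.2 ⟨hx, ?_⟩) hs
      simpa using L.mul_mem hz.2 (L.inv_mem (h.le_L hs))
    have hCn : S ≤ normalizer ((T ⊔ (X ⊓ centralizer (A : Set G)) : Subgroup G) : Set G) :=
      LocalChar.le_normalizer_sup_of_le h.le_normalizer_T
        (LocalChar.le_normalizer_inf_of_le (h.le_L.trans hLX)
          (LocalChar.le_normalizer_centralizer_of_le (h.le_L.trans h.A_norm)))
    have hXL : X ⊓ L ≤ X ⊓ centralizer (A : Set G) := by
      refine le_inf inf_le_left ?_
      rw [← commutator_eq_bot_iff_le_centralizer, eq_bot_iff]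
      have h4 : ⁅X ⊓ L, A⁆ ≤ R ⊓ A :=
        le_inf ((commutator_mono (inf_le_left.trans hXR) le_rfl).trans (commutator_le_left R A))
          (commutator_comm (X ⊓ L) A ▸
            Coprime.commutator_le_of_le_normalizer (inf_le_right.trans h.A_norm))
      refine h4.trans (le_of_eq ?_)
      exact (IsPGroup.disjoint_of_ne t p htp _ _ PSolvable.pCore_isPGroup h.isPGroup_A).eq_bot
    intro x hx
    refine LocalChar.mem_of_le_sup h.pgroup hCn ?_ ?_
    · refine (h1.trans (sup_le (h.sup_T.trans (sup_le_sup_right le_sup_left S)) ?_))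
        (mem_sup_left hx)
      exact h2.trans (sup_le_sup_right (hXL.trans le_sup_right) S)
    · obtain ⟨k, hk⟩ := PSolvable.pCore_isPGroup (G := G) (p := t) ⟨x, hXR hx⟩
      have hxk : orderOf x ∣ t ^ k := orderOf_dvd_of_pow_eq_one (congrArg Subtype.val hk)
      exact Nat.Coprime.coprime_dvd_left hxk
        (Nat.Coprime.pow_left k ((Nat.coprime_primes ht hp.out).2 htp))
  have hTeq : T = X := by
    refine le_antisymm hTX ?_
    by_contra hne
    haveI hXnil : Group.IsNilpotent X := (PSolvable.pCore_isPGroup.to_le hXR).isNilpotent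
    have hne' : T.subgroupOf X < ⊤ := lt_top_iff_ne_top.2 fun e => hne (subgroupOf_eq_top.1 e)
    obtain ⟨M, hM, hTM⟩ := (eq_top_or_exists_le_coatom _).resolve_left hne'.ne
    obtain ⟨hMn, hMi⟩ := Nilp.index_coatom_of_isPGroup (p := t)
      (PSolvable.pCore_isPGroup.to_le hXR) hM
    haveI := hMn
    have hXX : ⁅(⊤ : Subgroup X), ⊤⁆ ≤ M := by
      rw [commutator_le]
      intro a _ b _
      rw [← QuotientGroup.eq_one_iff]
      show QuotientGroup.mk' M ⁅a, b⁆ = 1
      rw [map_commutatorElement, commutatorElement_eq_one_iff_mul_comm]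
      haveI : IsCyclic (X ⧸ M) :=
        isCyclic_of_prime_card (p := t) ((Subgroup.index_eq_card M).symm.trans hMi)
      letI := IsCyclic.commGroup (α := X ⧸ M)
      exact mul_comm _ _
    set D := ⁅X, X⁆ with hD
    have hDM : D ≤ M.map X.subtype := by
      rw [hD, show ⁅X, X⁆ = Subgroup.map X.subtype ⁅(⊤ : Subgroup X), (⊤ : Subgroup X)⁆ by
        rw [map_commutator, ← MonoidHom.range_eq_map, range_subtype]]
      exact map_mono hXX
    -- the fixed points lie in the derived group
    have hCD : X ⊓ centralizer (A : Set G) ≤ D := by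
      have hAX : A ≤ normalizer (X : Set G) := (h.A_le.trans h.le_L).trans hLX
      have hAD : A ≤ normalizer (D : Set G) :=
        LocalChar.le_normalizer_commutator_of_le hAX hAX
      set N := normalizer (D : Set G) with hN
      have hXN : X ≤ N := normalizer_commutator_ge_left X X
      set π := QuotientGroup.mk' (D.subgroupOf N) with hπ
      set V := (X.subgroupOf N).map π with hV
      set A' := (A.subgroupOf N).map π with hA'
      haveI hVc : IsMulCommutative V := ⟨⟨by
        rintro ⟨_, a, ha, rfl⟩ ⟨_, b, hb, rfl⟩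
        refine Subtype.ext ?_
        show π a * π b = π b * π a
        rw [← commutatorElement_eq_one_iff_mul_comm, ← map_commutatorElement, hπ,
          QuotientGroup.mk'_apply, QuotientGroup.eq_one_iff]
        exact commutator_mem_commutator (mem_subgroupOf.1 ha) (mem_subgroupOf.1 hb)⟩⟩
      have hAV : A' ≤ normalizer (V : Set _) := by
        refine le_normalizer_iff.2 ?_
        rintro _ ⟨a, ha, rfl⟩ _ ⟨x, hx, rfl⟩
        refine ⟨a * x * a⁻¹, ?_, by simp⟩
        exact (mem_normalizer_iff.1 (hAX ha) _).1 hx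
      have hcop' : (Nat.card A').Coprime (Nat.card V) := by
        refine (Nat.Coprime.coprime_dvd_left ?_ (hcop X hXR)).coprime_dvd_right ?_
        · exact (card_map_dvd _ _).trans
            (dvd_of_eq (Nat.card_congr (subgroupOfEquivOfLe hAD).toEquiv))
        · exact (card_map_dvd _ _).trans
            (dvd_of_eq (Nat.card_congr (subgroupOfEquivOfLe hXN).toEquiv))
      have hfix := Coprime.inf_centralizer_inf_commutator_eq_bot hAV hcop'
      intro x hx
      have hxV : π ⟨x, hXN hx.1⟩ ∈ (V ⊓ centralizer (A' : Set _)) ⊓ ⁅V, A'⁆ := by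
        refine ⟨⟨mem_map_of_mem _ hx.1, mem_centralizer_iff.2 ?_⟩, ?_⟩
        · rintro _ ⟨a, ha, rfl⟩
          rw [← map_mul, ← map_mul]
          exact congrArg π (Subtype.ext (mem_centralizer_iff.1 hx.2 a ha))
        · have h5 : (⟨x, hXN hx.1⟩ : N) ∈ ⁅X.subgroupOf N, A.subgroupOf N⁆ := by
            refine (Subgroup.mem_map_iff_mem N.subtype_injective).1 ?_
            rw [map_commutator, map_subgroupOf_eq_of_le hXN, map_subgroupOf_eq_of_le hAD, hXA]
            exact hx.1
          rw [hV, hA', ← map_commutator]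
          exact mem_map_of_mem _ h5
      rw [hfix, mem_bot, hπ, QuotientGroup.mk'_apply, QuotientGroup.eq_one_iff] at hxV
      exact hxV
    refine hM.1 (eq_top_iff.2 fun x _ => ?_)
    have hle : X ≤ M.map X.subtype :=
      hgenX.trans (sup_le (fun y hy => ⟨⟨y, hTX hy⟩, hTM hy, rfl⟩) (hCD.trans hDM))
    exact (Subgroup.mem_map_iff_mem X.subtype_injective).1 (hle x.2)
  refine ⟨?_, t, ht, htp, PSolvable.pCore_isPGroup.to_le hTt, ?_⟩
  · refine normalizer_eq_top_iff.1 (eq_top_iff.2 (h.T_le_top.ge.trans (sup_le h.T_norm ?_)))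
    rw [hTeq]
    exact hLX
  · -- class two
    have hS : S ≤ normalizer ((⁅T, T⁆ : Subgroup G) : Set G) :=
      LocalChar.le_normalizer_commutator_of_le h.le_normalizer_T h.le_normalizer_T
    have hTT : ⁅T, T⁆ ≤ T := commutator_le.2 fun a ha b hb => by
      rw [commutatorElement_def]
      exact mul_mem (mul_mem (mul_mem ha hb) (inv_mem ha)) (inv_mem hb)
    have hproper : ¬ T ≤ ⁅T, T⁆ := by
      intro hle
      haveI : Group.IsNilpotent T := (PSolvable.pCore_isPGroup.to_le hTt).isNilpotent
      haveI : Nontrivial T := (nontrivial_iff_ne_bot T).2 h.T_ne_bot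
      refine (Group.IsSolvable.commutator_lt_top_of_nontrivial T).ne (eq_top_iff.2 fun x _ => ?_)
      refine (Subgroup.mem_map_iff_mem T.subtype_injective).1 ?_
      rw [map_subtype_commutator]
      exact hle x.2
    have hL : ⁅T, T⁆ ≤ L := (h.dichotomy hS).resolve_left hproper
    have hDA : ⁅⁅T, T⁆, A⁆ = ⊥ := by
      rw [eq_bot_iff]
      have h4 : ⁅⁅T, T⁆, A⁆ ≤ R ⊓ A :=
        le_inf ((commutator_mono (hTT.trans hTt) le_rfl).trans (commutator_le_left R A))
          (commutator_comm ⁅T, T⁆ A ▸
            Coprime.commutator_le_of_le_normalizer (hL.trans h.A_norm))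
      refine h4.trans (le_of_eq ?_)
      exact (IsPGroup.disjoint_of_ne t p htp _ _ PSolvable.pCore_isPGroup h.isPGroup_A).eq_bot
    set D := ⁅T, T⁆ with hD
    have hDD : ⁅D, T⁆ ≤ D := by
      refine commutator_le.2 fun d hd x hx => ?_
      exact commutator_mem_commutator (hTT hd) hx
    have h1 : ⁅⁅A, D⁆, T⁆ = ⊥ := by rw [commutator_comm A D, hDA, commutator_bot_left]
    have h2 : ⁅⁅D, T⁆, A⁆ = ⊥ := le_bot_iff.1 ((commutator_mono hDD le_rfl).trans hDA.le)
    have h3 : ⁅⁅T, A⁆, D⁆ = ⊥ := commutator_commutator_eq_bot_of_rotate h1 h2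
    rw [commutator_comm D T]
    exact le_bot_iff.1 ((commutator_mono h.T_le_commutator le_rfl).trans h3.le)

end Setting

end Cfsg.Agent.Lib.IsolatedPMinimal
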