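import Mathlib
import Cfsg.Agent.Lib.IsolatedPMinimal.Setting
import Cfsg.Agent.Lib.Components.Orbit
import Cfsg.Agent.Lib.Coprime.Sylow

/-!
The non-soluble case of an isolated `p`-minimal subgroup: the normal closure of `T` is the join of
one `S`-orbit of components and `p` divides its order.
-/

set_option autoImplicit false

namespace Cfsg.Agent.Lib.IsolatedPMinimal

open Subgroup Cfsg
open scoped commutatorElement

universe u

variable {G : Type u} [Group G] [Finite G]

/-- A normal commutative subgroup lies in the Fitting subgroup. -/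
theorem le_fitting_of_le_centralizer {N : Subgroup G} (hn : N.Normal)
    (hc : N ≤ centralizer (N : Set G)) : N ≤ fittingSubgroup G := by
  refine Components.le_fittingSubgroup hn ?_
  haveI : IsMulCommutative N :=
    ⟨⟨fun a b => Subtype.ext (mem_centralizer_iff.1 (hc b.2) a a.2)⟩⟩
  letI : CommGroup N := { (inferInstance : Group N) with mul_comm := fun a b => mul_comm' a b }
  infer_instance

theorem subnormal_orbitJoin (S : Subgroup G) {K : Subgroup G} (hK : IsComponent K) :
    (Components.orbitJoin S K).IsSubnormal := by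
  refine Components.subnormal_sSup _ ?_
  rintro _ ⟨s, rfl⟩
  exact (Components.isComponent_conj hK _).1

theorem mem_orbit_of_le {S K C : Subgroup G} (hK : IsComponent K) (hC : IsComponent C)
    (h : C ≤ Components.orbitJoin S K) : ∃ s ∈ S, K.map (MulAut.conj s).toMonoidHom = C := by
  obtain ⟨⟨s, hs⟩, e⟩ := Components.isComponent_mem_of_le_sSup
    (S := Set.range fun a : S => K.map (MulAut.conj (a : G)).toMonoidHom)
    (by rintro _ ⟨a, rfl⟩; exact Components.isComponent_conj hK _) hC h
  exact ⟨s, hs, e⟩

namespace Setting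

variable {p : ℕ} [hp : Fact p.Prime] {S L P A T : Subgroup G} (h : Setting p S L P A T)
include h

omit [Finite G] hp in
theorem not_le_centralizer_conj {K : Subgroup G} {l : G} (hl : l ∈ L)
    (hK : ¬ A ≤ centralizer (K : Set G)) :
    ¬ A ≤ centralizer ((K.map (MulAut.conj l).toMonoidHom : Subgroup G) : Set G) := by
  refine fun h1 => hK fun a ha => mem_centralizer_iff.2 fun x hx => ?_
  have h2 : l * a * l⁻¹ ∈ A := (mem_normalizer_iff.1 (h.A_norm hl) a).1 ha
  have h3 := mem_centralizer_iff.1 (h1 h2) (l * x * l⁻¹) ⟨x, hx, rfl⟩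
  have h4 : l * (x * a) * l⁻¹ = l * (a * x) * l⁻¹ := by
    simpa [mul_assoc] using h3
  simpa using h4

/-- The layer case. -/
theorem le_orbitJoin {K : Subgroup G} (hK : IsComponent K)
    (hA : ¬ A ≤ centralizer (K : Set G)) : T ≤ Components.orbitJoin S K := by
  set X := Components.orbitJoin S K with hX
  refine (h.dichotomy (Components.le_normalizer_orbitJoin S K)).resolve_right fun hXL => hA ?_
  have hXA : X ≤ normalizer (A : Set G) := hXL.trans h.A_norm
  have hAX : A ≤ normalizer (X : Set G) := h.A_le.trans (Components.le_normalizer_orbitJoin S K)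
  have hint : ⁅X, A⁆ ≤ X ⊓ A :=
    le_inf (Coprime.commutator_le_of_le_normalizer hAX)
      (commutator_comm X A ▸ Coprime.commutator_le_of_le_normalizer hXA)
  haveI hn : ((X ⊓ A).subgroupOf X).Normal :=
    normal_subgroupOf_of_le_normalizer (LocalChar.le_normalizer_inf_of_le le_normalizer hXA)
  have hsn : (X ⊓ A).IsSubnormal :=
    Components.subnormal_of_subgroupOf_normal inf_le_left (subnormal_orbitJoin S hK) hn
  have hbot : X ⊓ A = ⊥ := le_bot_iff.1 (h.core ▸
    LocalChar.le_pCore_of_isSubnormal hsn (h.isPGroup_A.to_le inf_le_right))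
  have h1 : ⁅X, A⁆ = ⊥ := le_bot_iff.1 (hint.trans hbot.le)
  refine le_centralizer_iff.1 ((Components.le_orbitJoin S K).trans ?_)
  exact commutator_eq_bot_iff_le_centralizer.1 h1

theorem exists_not_le_centralizer (hT : ¬ T ≤ fittingSubgroup G) :
    ∃ K : Subgroup G, IsComponent K ∧ ¬ A ≤ centralizer (K : Set G) := by
  by_contra hne
  simp only [not_exists, not_and, not_not] at hne
  haveI := Components.layer_normal (G := G)
  have hAE : A ≤ centralizer (layer G : Set G) :=
    le_centralizer_iff.1 (Components.layer_le_iff.2 fun K hK => le_centralizer_iff.1 (hne K hK))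
  have hTC : T ≤ centralizer (layer G : Set G) := h.T_min _ hAE le_normalizer_of_normal
  refine hT ((le_inf (h.le_fitting_or_layer.resolve_left hT) hTC).trans
    (le_fitting_of_le_centralizer inferInstance ?_))
  exact inf_le_right.trans (centralizer_le inf_le_left)

/-- The components not centralized by `A` form one `S`-orbit. -/
theorem exists_conj (hT : ¬ T ≤ fittingSubgroup G) {K K' : Subgroup G} (hK : IsComponent K)
    (hA : ¬ A ≤ centralizer (K : Set G)) (hK' : IsComponent K')
    (hA' : ¬ A ≤ centralizer (K' : Set G)) :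
    ∃ s ∈ S, K.map (MulAut.conj s).toMonoidHom = K' := by
  by_contra hne
  haveI := Components.layer_normal (G := G)
  have hTC : T ≤ centralizer (layer G : Set G) := by
    refine le_centralizer_iff.1 (Components.layer_le_iff.2 fun C hC => ?_)
    by_cases hCX : C ≤ Components.orbitJoin S K
    · have hCX' : ¬ C ≤ Components.orbitJoin S K' := fun h' => by
        obtain ⟨s, hs, e⟩ := mem_orbit_of_le hK hC hCX
        obtain ⟨u, hu, e'⟩ := mem_orbit_of_le hK' hC h'
        refine hne ⟨u⁻¹ * s, S.mul_mem (S.inv_mem hu) hs, ?_⟩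
        rw [← Components.map_conj_map_conj, e, ← e', Components.map_conj_map_conj,
          inv_mul_cancel, Components.map_conj_one]
      exact (Components.isComponent_le_centralizer_of_not_le hC (subnormal_orbitJoin S hK')
        hCX').trans (centralizer_le (h.le_orbitJoin hK' hA'))
    · exact (Components.isComponent_le_centralizer_of_not_le hC (subnormal_orbitJoin S hK)
        hCX).trans (centralizer_le (h.le_orbitJoin hK hA))
  refine hT ((le_inf (h.le_fitting_or_layer.resolve_left hT) hTC).trans
    (le_fitting_of_le_centralizer inferInstance ?_))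
  exact inf_le_right.trans (centralizer_le inf_le_left)

/-- The normal closure of `T` is one orbit join. -/
theorem normalClosure_eq (hT : ¬ T ≤ fittingSubgroup G) {K : Subgroup G} (hK : IsComponent K)
    (hA : ¬ A ≤ centralizer (K : Set G)) :
    normalClosure (T : Set G) = Components.orbitJoin S K := by
  set J := Components.orbitJoin S K with hJ
  have hTJ : T ≤ J := h.le_orbitJoin hK hA
  have hLJ : L ≤ normalizer (J : Set G) := by
    refine le_normalizer_iff.2 fun l hl x hx => ?_
    have hle : J.map (MulAut.conj l).toMonoidHom ≤ J := by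
      rw [hJ, Components.orbitJoin, Subgroup.map_iSup]
      refine iSup_le fun a => ?_
      rw [Components.map_conj_map_conj]
      obtain ⟨u, hu, e⟩ := h.exists_conj hT hK hA (Components.isComponent_conj hK (l * (a : G)))
        (h.not_le_centralizer_conj (L.mul_mem hl (h.le_L a.2)) hA)
      exact le_iSup_of_le (⟨u, hu⟩ : S) e.ge
    exact hle (mem_map_of_mem _ hx)
  haveI hJn : J.Normal := by
    refine normalizer_eq_top_iff.1 (eq_top_iff.2 (h.T_le_top.ge.trans (sup_le ?_ hLJ)))
    exact h.sup_T.trans (sup_le (hTJ.trans le_normalizer)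
      (Components.le_normalizer_orbitJoin S K))
  set Y := normalClosure (T : Set G) with hY
  have hYJ : Y ≤ J := normalClosure_le_normal hTJ
  have hTY : T ≤ Y := le_normalClosure
  refine le_antisymm hYJ (iSup_le fun a => ?_)
  by_contra hnot
  have hall : ∀ b : S, K.map (MulAut.conj (b : G)).toMonoidHom ≤ centralizer (Y : Set G) := by
    intro b
    refine Components.isComponent_le_centralizer_of_not_le (Components.isComponent_conj hK _)
      (inferInstance : Y.Normal).isSubnormal fun hb => hnot ?_
    have h1 := map_mono (f := (MulAut.conj ((a : G) * (b : G)⁻¹)).toMonoidHom) hb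
    rw [Components.map_conj_map_conj, inv_mul_cancel_right,
      Components.layer_conj_map_eq Y (le_normalizer_of_normal (mem_top _) : _)] at h1
    exact h1
  refine hT (hTY.trans (le_fitting_of_le_centralizer inferInstance ?_))
  exact hYJ.trans (iSup_le hall)

theorem isPerfect_normalClosure (hT : ¬ T ≤ fittingSubgroup G) :
    normalClosure (T : Set G) ≤ ⁅normalClosure (T : Set G), normalClosure (T : Set G)⁆ := by
  obtain ⟨K, hK, hA⟩ := h.exists_not_le_centralizer hT
  rw [h.normalClosure_eq hT hK hA]
  refine iSup_le fun a => ?_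
  conv_lhs => rw [← Components.isComponent_commutator_self (Components.isComponent_conj hK (a : G))]
  exact commutator_mono (le_iSup (fun b : S => K.map (MulAut.conj (b : G)).toMonoidHom) a)
    (le_iSup (fun b : S => K.map (MulAut.conj (b : G)).toMonoidHom) a)

/-- The prime divides the order of the normal closure. -/
theorem dvd_card (hT : ¬ T ≤ fittingSubgroup G) :
    p ∣ Nat.card ↥(normalClosure (T : Set G)) := by
  classical
  obtain ⟨K, hK, hA⟩ := h.exists_not_le_centralizer hT
  have hJeq := h.normalClosure_eq hT hK hA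
  have hperf := h.isPerfect_normalClosure hT
  set J := normalClosure (T : Set G) with hJ
  haveI hJn : J.Normal := normalClosure_normal
  by_contra hnd
  have hcop : (Nat.card S).Coprime (Nat.card J) := by
    obtain ⟨k, hk⟩ := IsPGroup.iff_card.1 h.pgroup
    rw [hk]
    exact Nat.Coprime.pow_left k ((Nat.Prime.coprime_iff_not_dvd hp.out).2 hnd)
  have hsolS : Group.IsSolvable S := by
    haveI : Group.IsNilpotent S := h.pgroup.isNilpotent
    infer_instance
  have hSJ : S ≤ normalizer (J : Set G) := le_normalizer_of_normal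
  have hex : ∀ r : ℕ, ∃ R : Subgroup G, R ≤ J ∧ S ≤ normalizer (R : Set G) ∧
      (r.Prime → IsPGroup r R ∧ ¬ r ∣ (R.subgroupOf J).index) := by
    intro r
    by_cases hr : r.Prime
    swap
    · exact ⟨J, le_rfl, hSJ, fun h' => absurd h' hr⟩
    haveI := Fact.mk hr
    obtain ⟨R, hR⟩ := Coprime.exists_invariant_sylow (p := r) hSJ hcop (Or.inl hsolS)
    refine ⟨_, map_subtype_le _, hR, fun _ => ⟨R.2.map _, ?_⟩⟩
    rw [show ((R : Subgroup J).map J.subtype).subgroupOf J = (R : Subgroup J) from
      comap_map_eq_self_of_injective J.subtype_injective _]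
    exact R.not_dvd_index
  choose R hRJ hRS hRp using hex
  -- some Sylow subgroup contains `T`
  obtain ⟨t, ht, hTR⟩ : ∃ t, t.Prime ∧ T ≤ R t := by
    by_contra hne
    simp only [not_exists, not_and] at hne
    have hone : (L.subgroupOf J).index = 1 := by
      rw [Nat.eq_one_iff_not_exists_prime_dvd]
      intro r hr hd
      refine (hRp r hr).2 (dvd_trans hd (index_dvd_of_le ?_))
      exact comap_mono ((h.dichotomy (hRS r)).resolve_left (hne r hr))
    exact h.not_T_le_L (le_normalClosure.trans (subgroupOf_eq_top.1 (index_eq_one.1 hone)))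
  haveI := Fact.mk ht
  have hJA : J ⊓ A = ⊥ := disjoint_iff.1 (Disjoint.symm (disjoint_iff.2 (inf_eq_bot_of_coprime
    (Nat.Coprime.coprime_dvd_left (card_dvd_of_le h.A_le) hcop))))
  -- the centralizer of `A` has index a power of `t`
  obtain ⟨k, hk⟩ : ∃ k, (centralizer (A : Set G)).relIndex J = t ^ k := by
    refine ⟨_, Nat.eq_prime_pow_of_unique_prime_dvd index_ne_zero_of_finite fun {r} hr hd => ?_⟩
    by_contra hrt
    haveI := Fact.mk hr
    refine (hRp r hr).2 (dvd_trans hd (index_dvd_of_le (comap_mono ?_)))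
    rcases h.dichotomy (hRS r) with h1 | h1
    · exact absurd (le_bot_iff.1 ((le_inf h1 hTR).trans
        (IsPGroup.disjoint_of_ne r t hrt _ _ (hRp r hr).1 (hRp t ht).1).eq_bot.le)) h.T_ne_bot
    · rw [← commutator_eq_bot_iff_le_centralizer, eq_bot_iff, ← hJA]
      exact le_inf ((commutator_mono (hRJ r) le_rfl).trans (commutator_le_left J A))
        (commutator_comm (R r) A ▸
          Coprime.commutator_le_of_le_normalizer (h1.trans h.A_norm))
  -- an element acting nontrivially
  obtain ⟨a, ha, haJ⟩ : ∃ a ∈ A, a ∉ centralizer (J : Set G) := by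
    by_contra hne
    simp only [not_exists, not_and, not_not] at hne
    exact hA fun a ha => centralizer_le
      ((Components.le_orbitJoin S K).trans hJeq.ge) (hne a ha)
  set H := J ⊔ zpowers a with hH
  have hJH : J ≤ H := le_sup_left
  let a' : H := ⟨a, mem_sup_right (mem_zpowers a)⟩
  set J' := J.subgroupOf H with hJ'
  set C' := centralizer ({a'} : Set H) with hC'
  have htop : C' ⊔ J' = ⊤ := by
    rw [eq_top_iff, ← map_subtype_le_map_subtype, Subgroup.map_sup, map_subgroupOf_eq_of_le hJH,
      ← MonoidHom.range_eq_map, range_subtype]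
    show J ⊔ zpowers a ≤ _
    refine sup_le le_sup_right ((zpowers_le.2 ?_).trans le_sup_left)
    exact ⟨a', mem_centralizer_singleton_iff.2 rfl, rfl⟩
  have hidx : C'.index = C'.relIndex J' := by
    have h1 : (C' ⊓ J').relIndex J' * J'.index = (C' ⊓ J').index :=
      relIndex_mul_index inf_le_right
    have h2 : (C' ⊓ J').relIndex C' * C'.index = (C' ⊓ J').index :=
      relIndex_mul_index inf_le_left
    rw [inf_relIndex_right] at h1
    rw [inf_relIndex_left, ← relIndex_sup_right C' J', htop, relIndex_top_right, ← h1,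
      mul_comm (C'.relIndex J')] at h2
    exact Nat.eq_of_mul_eq_mul_left (Nat.pos_of_ne_zero index_ne_zero_of_finite) h2
  have hdvd : C'.index ∣ t ^ k := by
    rw [hidx, ← hk, ← relIndex_subgroupOf (H := centralizer (A : Set G)) hJH]
    refine relIndex_dvd_of_le_left _ fun x hx => mem_centralizer_singleton_iff.2 ?_
    exact Subtype.ext (mem_centralizer_iff.1 (mem_subgroupOf.1 hx) a ha).symm
  haveI : (pCore t H).Normal := by
    haveI := PSolvable.pCore_characteristic (G := H) (p := t)
    infer_instance
  set π := QuotientGroup.mk' (pCore t H) with hπ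
  obtain ⟨b, hb⟩ := IsPGroup.iff_orderOf.1 h.isPGroup_A ⟨a, ha⟩
  have hoa : orderOf a' = p ^ b := by
    rw [← hb, ← Subgroup.orderOf_coe (⟨a, ha⟩ : A), ← Subgroup.orderOf_coe a']
  obtain ⟨b', -, hb'⟩ := (Nat.dvd_prime_pow hp.out).1 (hoa ▸ orderOf_map_dvd π a')
  obtain ⟨k', -, hk'⟩ := (Nat.dvd_prime_pow ht).1
    ((PrimePowerClass.index_centralizer_map_dvd (f := π) (QuotientGroup.mk'_surjective (pCore t H)) a').trans hdvd)
  have hmem : π a' ∈ pCore p (H ⧸ pCore t H) :=
    PrimePowerClass.mem_pCore_of_class_prime_pow (p := t) (q := p) _ _ le_rfl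
      PSolvable.pCore_quotient_eq_bot (π a') k' b' hb' hk'
  haveI hQn : (pCore p (H ⧸ pCore t H)).Normal := by
    haveI := PSolvable.pCore_characteristic (G := H ⧸ pCore t H) (p := p)
    infer_instance
  set M := (pCore p (H ⧸ pCore t H)).comap π with hM
  haveI hMn : M.Normal := hQn.comap π
  haveI hMsol : Group.IsSolvable M := by
    haveI : Group.IsNilpotent (pCore t H) := (PSolvable.pCore_isPGroup (p := t)).isNilpotent
    haveI : Group.IsNilpotent (pCore p (H ⧸ pCore t H)) :=
      (PSolvable.pCore_isPGroup (p := p)).isNilpotent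
    have hle : pCore t H ≤ M := fun x hx => by
      have e : π x = 1 := (QuotientGroup.eq_one_iff x).2 hx
      rw [hM, mem_comap, e]
      exact one_mem _
    refine Group.isSolvable_of_ker_le_range (Subgroup.inclusion hle)
      ((π.comp M.subtype).codRestrict (pCore p (H ⧸ pCore t H)) fun x => x.2) ?_
    intro x hx
    refine ⟨⟨x, ?_⟩, rfl⟩
    exact (QuotientGroup.eq_one_iff _).1 (congrArg Subtype.val hx)
  set D := M.map H.subtype ⊓ J with hD
  have hDsol : Group.IsSolvable D :=
    Components.isSolvable_subgroup_mono inf_le_left (Components.isSolvable_subgroup_map hMsol H.subtype)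
  have hJD : J ≤ normalizer (D : Set G) := by
    refine LocalChar.le_normalizer_inf_of_le ?_ le_normalizer
    refine le_normalizer_iff.2 ?_
    rintro x hx _ ⟨m, hm, rfl⟩
    exact ⟨⟨x, hJH hx⟩ * m * ⟨x, hJH hx⟩⁻¹, hMn.conj_mem m hm _, rfl⟩
  have hDJ : ⁅D, J⁆ = ⊥ := by
    rw [commutator_comm, commutator_eq_bot_iff_le_centralizer, hJeq]
    refine iSup_le fun b => commutator_eq_bot_iff_le_centralizer.1 ?_
    refine Components.isComponent_commutator_solvable (Components.isComponent_conj hK _) hDsol
      (le_trans ?_ hJD)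
    rw [hJeq]
    exact le_iSup (fun c : S => K.map (MulAut.conj (c : G)).toMonoidHom) b
  have haD : ⁅J, zpowers a⁆ ≤ D := by
    refine commutator_le.2 fun x hx y hy => ⟨⟨⁅(⟨x, hJH hx⟩ : H), ⟨y, mem_sup_right hy⟩⁆, ?_, rfl⟩,
      commutator_le_left J (zpowers a) (commutator_mem_commutator hx hy)⟩
    have hy' : (⟨y, mem_sup_right hy⟩ : H) ∈ M := by
      obtain ⟨i, rfl⟩ := hy
      exact zpow_mem (show a' ∈ M from hmem) i
    rw [SetLike.mem_coe, commutatorElement_def]
    exact mul_mem (hMn.conj_mem _ hy' _) (inv_mem hy')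
  have h1 : ⁅⁅J, zpowers a⁆, J⁆ = ⊥ := le_bot_iff.1 ((commutator_mono haD le_rfl).trans hDJ.le)
  have h2 : ⁅⁅zpowers a, J⁆, J⁆ = ⊥ := by rw [commutator_comm (zpowers a) J, h1]
  have h3 : ⁅⁅J, J⁆, zpowers a⁆ = ⊥ := commutator_commutator_eq_bot_of_rotate h1 h2
  refine haJ ((le_centralizer_iff.1 (commutator_eq_bot_iff_le_centralizer.1
    (le_bot_iff.1 ((commutator_mono hperf le_rfl).trans h3.le)))) (mem_zpowers a))

/-- The normal closure of `T` is generated by its components. -/
theorem layer_normalClosure (hT : ¬ T ≤ fittingSubgroup G) :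
    layer ↥(normalClosure (T : Set G)) = ⊤ := by
  obtain ⟨K, hK, hA⟩ := h.exists_not_le_centralizer hT
  have hJeq := h.normalClosure_eq hT hK hA
  set J := normalClosure (T : Set G) with hJ
  rw [eq_top_iff, ← map_subtype_le_map_subtype, ← MonoidHom.range_eq_map, range_subtype]
  conv_lhs => rw [hJeq]
  refine iSup_le fun a => ?_
  have hle : K.map (MulAut.conj (a : G)).toMonoidHom ≤ J := by
    rw [hJeq]
    exact le_iSup (fun c : S => K.map (MulAut.conj (c : G)).toMonoidHom) a
  rw [← map_subgroupOf_eq_of_le hle]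
  exact map_mono (Components.isComponent_le_layer
    (Components.isComponent_subgroupOf (Components.isComponent_conj hK _) hle))

/-- The components inside the normal closure of `T` are conjugate under `S`. -/
theorem component_conj (hT : ¬ T ≤ fittingSubgroup G) {K₁ K₂ : Subgroup G}
    (h₁ : IsComponent K₁) (h₂ : IsComponent K₂) (hle₁ : K₁ ≤ normalClosure (T : Set G))
    (hle₂ : K₂ ≤ normalClosure (T : Set G)) :
    ∃ s ∈ S, K₂ = K₁.map (MulAut.conj s).toMonoidHom := by
  obtain ⟨K, hK, hA⟩ := h.exists_not_le_centralizer hT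
  rw [h.normalClosure_eq hT hK hA] at hle₁ hle₂
  obtain ⟨s, hs, rfl⟩ := mem_orbit_of_le hK h₁ hle₁
  obtain ⟨u, hu, rfl⟩ := mem_orbit_of_le hK h₂ hle₂
  refine ⟨u * s⁻¹, S.mul_mem hu (S.inv_mem hs), ?_⟩
  rw [Components.map_conj_map_conj, inv_mul_cancel_right]

end Setting

end Cfsg.Agent.Lib.IsolatedPMinimal
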