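import Mathlib
import Cfsg.Agent.Lib.IsolatedPMinimal.Layer
import Cfsg.Agent.Lib.IsolatedPMinimal.Generation
import Cfsg.Agent.Lib.PMinimal55.Basic

/-!
An isolated `p`-minimal subgroup gives the working hypotheses in `G / O_p(G)`; consequences for the
normal closure `Y` of `O^p(P)`.
-/

set_option autoImplicit false

namespace Cfsg.Agent.Lib.IsolatedPMinimal

open Subgroup Cfsg
open scoped commutatorElement

universe u

variable {G : Type u} [Group G] [Finite G] {p : ℕ} [hp : Fact p.Prime]

/-- The hypotheses of isolation, unbundled. -/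
structure Isolated (S : Sylow p G) (P L : Subgroup G) : Prop where
  le_P : (S : Subgroup G) ≤ P
  minimal : IsPMinimal p ↥P
  def_L : L = normalizer ((S : Subgroup G) : Set G) ⊔
    ⨆ P' : {P' : Subgroup G // (S : Subgroup G) ≤ P' ∧ IsPMinimal p ↥P' ∧ P' ≠ P}, (P' : Subgroup G)
  not_core_le : ¬ (pCore p ↥L).map L.subtype ≤ (pCore p ↥P).map P.subtype

variable {S : Sylow p G} {P L : Subgroup G}

namespace Isolated

variable (h : Isolated S P L)
include h

omit [Finite G] hp in
theorem le_L : (S : Subgroup G) ≤ L := by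
  rw [h.def_L]
  exact le_sup_of_le_left le_normalizer

theorem core_le_S : (pCore p ↥L).map L.subtype ≤ (S : Subgroup G) :=
  LocalChar.pCoreOf_le_sylow S h.le_L

omit [Finite G] hp in
theorem le_normalizer_core : L ≤ normalizer (((pCore p ↥L).map L.subtype : Subgroup G) : Set G) :=
  le_normalizer.trans (LocalChar.normalizer_le_normalizer_pCoreOf L)

theorem not_le : ¬ P ≤ L := fun hle => h.not_core_le
  (CharP.le_pCoreOf (h.core_le_S.trans h.le_P) ((PSolvable.pCore_isPGroup).map _)
    (hle.trans h.le_normalizer_core))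

theorem gen (X : Subgroup G) (hX : (S : Subgroup G) ≤ X) : X ≤ P ⊔ (X ⊓ L) := by
  refine (le_normalizer_sup_minimals S _ X le_rfl hX).trans (sup_le ?_ (iSup_le fun P' => ?_))
  · refine le_sup_of_le_right (le_inf inf_le_right (inf_le_left.trans ?_))
    rw [h.def_L]
    exact le_sup_left
  · by_cases e : P'.1 = P
    · exact le_sup_of_le_left e.le
    · refine le_sup_of_le_right (le_inf P'.2.2.1 ?_)
      rw [h.def_L]
      exact le_sup_of_le_right (le_iSup_of_le ⟨P'.1, P'.2.1, P'.2.2.2, e⟩ le_rfl)

theorem ovr (X : Subgroup G) (hX : (S : Subgroup G) ≤ X) : P ≤ X ∨ X ≤ L := by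
  refine or_iff_not_imp_left.2 fun hnot => ?_
  refine (le_normalizer_sup_minimals S _ X le_rfl hX).trans (sup_le ?_ (iSup_le fun P' => ?_))
  · rw [h.def_L]
    exact le_sup_of_le_left inf_le_left
  · rw [h.def_L]
    refine le_sup_of_le_right (le_iSup_of_le ⟨P'.1, P'.2.1, P'.2.2.2, fun e => hnot ?_⟩ le_rfl)
    exact e.ge.trans P'.2.2.1

theorem residual_sup_S : (pResidual p ↥P).map P.subtype ⊔ (S : Subgroup G) = P :=
  LocalChar.resOf_sup_sylow' S h.le_P

/-- `G = Y L`. -/
theorem normalClosure_sup_eq_top :
    normalClosure (((pResidual p ↥P).map P.subtype : Subgroup G) : Set G) ⊔ L = ⊤ := by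
  refine top_le_iff.1 ((h.gen ⊤ le_top).trans (sup_le ?_ (le_sup_of_le_right inf_le_right)))
  calc P = (pResidual p ↥P).map P.subtype ⊔ (S : Subgroup G) := h.residual_sup_S.symm
    _ ≤ _ := sup_le (le_sup_of_le_left le_normalClosure) (le_sup_of_le_right h.le_L)

variable [hn : (pCore p G).Normal]

/-- The hypotheses hold in `G / O_p(G)`. -/
theorem setting :
    Setting p ((S : Subgroup G).map (QuotientGroup.mk' (pCore p G)))
      (L.map (QuotientGroup.mk' (pCore p G))) (P.map (QuotientGroup.mk' (pCore p G)))
      (((pCore p ↥L).map L.subtype).map (QuotientGroup.mk' (pCore p G)))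
      (((pResidual p ↥P).map P.subtype).map (QuotientGroup.mk' (pCore p G))) := by
  set π := QuotientGroup.mk' (pCore p G) with hπ
  set A := (pCore p ↥L).map L.subtype with hA
  set T := (pResidual p ↥P).map P.subtype with hT
  have hsurj : Function.Surjective π := QuotientGroup.mk'_surjective _
  have hker : π.ker ≤ L := by
    rw [hπ, QuotientGroup.ker_mk']
    exact (PSolvable.pCore_le_sylow S).trans h.le_L
  refine
    { pgroup := S.2.map π
      core := PSolvable.pCore_quotient_eq_bot
      le_L := map_mono h.le_L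
      le_P := map_mono h.le_P
      not_le := fun hle => h.not_le ?_
      gen := fun X hX => ?_
      ovr := fun X hX => ?_
      A_le := map_mono h.core_le_S
      A_norm := (map_mono h.le_normalizer_core).trans (le_normalizer_map π)
      T_le := map_mono (map_subtype_le _)
      T_norm := (map_mono (LocalChar.le_normalizer_resOf P)).trans (le_normalizer_map π)
      sup_T := ?_
      T_res := ?_
      T_min := fun C hAC hPC => ?_ }
  · exact (map_le_iff_le_comap.1 hle).trans (le_of_eq (by rw [comap_map_eq, sup_eq_left.2 hker]))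
  · have hX' : (S : Subgroup G) ≤ X.comap π := map_le_iff_le_comap.1 hX
    rw [← map_comap_eq_self_of_surjective hsurj X]
    refine (map_mono (h.gen _ hX')).trans ?_
    rw [Subgroup.map_sup]
    exact sup_le_sup le_rfl (map_inf_le _ _ π)
  · have hX' : (S : Subgroup G) ≤ X.comap π := map_le_iff_le_comap.1 hX
    rw [← map_comap_eq_self_of_surjective hsurj X]
    exact (h.ovr _ hX').imp map_mono map_mono
  · rw [← Subgroup.map_sup]
    exact map_mono h.residual_sup_S.ge
  · rw [map_le_iff_le_comap, hT, LocalChar.resOf_le_iff]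
    intro x hx hc
    rw [mem_comap]
    exact subset_closure ⟨mem_map_of_mem π (LocalChar.mem_resOf hx hc),
      Nat.Coprime.coprime_dvd_left (orderOf_map_dvd π x) hc⟩
  · rw [map_le_iff_le_comap]
    haveI hN : ((C.comap π).subgroupOf P).Normal := by
      refine ⟨fun c hc x => ?_⟩
      rw [mem_subgroupOf, mem_comap] at hc ⊢
      rw [Subgroup.coe_mul, Subgroup.coe_mul, map_mul, map_mul, Subgroup.coe_inv, map_inv]
      exact (mem_normalizer_iff.1 (hPC (mem_map_of_mem π x.2)) _).1 hc
    obtain ⟨M, d⟩ := PMinimal55.exists_data h.minimal (S.subtype h.le_P)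
    rcases d.dichotomy ((C.comap π).subgroupOf P) with h1 | h1
    · exact (map_mono h1).trans (by
        rw [subgroupOf, map_comap_eq]
        exact inf_le_right)
    · exfalso
      refine h.not_core_le fun a ha => ⟨⟨a, h.le_P (h.core_le_S ha)⟩, ?_, rfl⟩
      refine d.inf_sylow_le hN.isSubnormal (h1.trans M.normalCore_le) ⟨?_, ?_⟩
      · exact hAC (mem_map_of_mem π ha)
      · exact h.core_le_S ha

/-- `O^p(P)` lies in the preimage of `F*(G / O_p(G))`. -/
theorem residual_le_gfs :
    (pResidual p ↥P).map P.subtype ≤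
      (generalizedFittingSubgroup (G ⧸ pCore p G)).comap (QuotientGroup.mk' (pCore p G)) :=
  map_le_iff_le_comap.1 h.setting.le_gfs

/-- In the Fitting case `O^p(P)` is normal in `G`. -/
theorem normalClosure_eq_of_fitting
    (hF : ((pResidual p ↥P).map P.subtype).map (QuotientGroup.mk' (pCore p G)) ≤
      fittingSubgroup (G ⧸ pCore p G)) :
    normalClosure (((pResidual p ↥P).map P.subtype : Subgroup G) : Set G) =
      (pResidual p ↥P).map P.subtype := by
  obtain ⟨hTn, -⟩ := h.setting.fitting_case hF
  set T := (pResidual p ↥P).map P.subtype with hT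
  haveI := hTn
  haveI hWn : ((T.map (QuotientGroup.mk' (pCore p G))).comap
      (QuotientGroup.mk' (pCore p G))).Normal := hTn.comap _
  set W := (T.map (QuotientGroup.mk' (pCore p G))).comap (QuotientGroup.mk' (pCore p G)) with hW
  have hWP : W ≤ P := by
    rw [hW, comap_map_eq, QuotientGroup.ker_mk']
    exact sup_le (map_subtype_le _) ((PSolvable.pCore_le_sylow S).trans h.le_P)
  have heq : (pResidual p ↥W).map W.subtype = T := by
    refine le_antisymm (LocalChar.resOf_mono hWP) (LocalChar.resOf_le_iff.2 fun x hx hc => ?_)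
    exact LocalChar.mem_resOf (le_comap_map _ _ (LocalChar.mem_resOf hx hc)) hc
  have hn' : T.Normal := by
    refine normalizer_eq_top_iff.1 (eq_top_iff.2 ?_)
    rw [← heq]
    exact (le_normalizer_of_normal (H := W)).trans (LocalChar.normalizer_le_normalizer_resOf W)
  exact normalClosure_eq_self T

end Isolated

section Quot

variable (Y : Subgroup G) [Y.Normal] [hn : (pCore p G).Normal]

omit [Finite G] hp in
theorem mem_pCore_subgroup (y : Y) : y ∈ pCore p Y ↔ (y : G) ∈ pCore p G := by
  rw [← Subgroup.mem_map_iff_mem Y.subtype_injective, PSolvable.map_subtype_pCore_of_normal]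
  exact ⟨fun h => h.1, fun h => ⟨h, y.2⟩⟩

omit [Finite G] hp in
theorem ker_restrict : ((QuotientGroup.mk' (pCore p G)).comp Y.subtype).ker = pCore p Y := by
  ext y
  rw [mem_pCore_subgroup, MonoidHom.mem_ker]
  exact QuotientGroup.eq_one_iff (y : G)

omit [Finite G] hp in
theorem range_restrict :
    ((QuotientGroup.mk' (pCore p G)).comp Y.subtype).range =
      Y.map (QuotientGroup.mk' (pCore p G)) := by
  rw [MonoidHom.range_comp, range_subtype]

/-- `Y / O_p(Y)` is the image of `Y` in `G / O_p(G)`. -/
noncomputable def imageEquiv [hY : (pCore p Y).Normal] :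
    Y ⧸ pCore p Y ≃* ↥(Y.map (QuotientGroup.mk' (pCore p G))) :=
  (QuotientGroup.quotientMulEquivOfEq (ker_restrict Y).symm).trans
    ((QuotientGroup.quotientKerEquivRange _).trans (MulEquiv.subgroupCongr (range_restrict Y)))

omit [Finite G] hp in
theorem imageEquiv_mk [hY : (pCore p Y).Normal] (y : Y) :
    (imageEquiv Y (QuotientGroup.mk' (pCore p Y) y) : G ⧸ pCore p G) =
      QuotientGroup.mk' (pCore p G) (y : G) := rfl

end Quot

end Cfsg.Agent.Lib.IsolatedPMinimal
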